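import Mathlib

/-! Project SSCONJ (helper6): the only definition of the project. See `Skel.lean.txt` / `PLAN.md` in this folder. -/

set_option autoImplicit false

namespace Cfsg.Agent.Lib.helper6.SSCONJ

/-- the cyclic subspace spanned by `v, φ v, …, φ^(d-1) v` -/
def cyc {F : Type*} [Field F] {V : Type*} [AddCommGroup V] [Module F V] (φ : Module.End F V) (v : V) (d : ℕ) : Submodule F V :=
  Submodule.span F (Set.range fun k : Fin d => (φ ^ (k : ℕ)) v)

end Cfsg.Agent.Lib.helper6.SSCONJ
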